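import Mathlib.Algebra.Lie.Basis.Base
import Mathlib.Algebra.Lie.Semisimple.Defs
import Mathlib.Algebra.Lie.CartanCriterion
import Mathlib.FieldTheory.IsAlgClosed.Basic
import Mathlib.LinearAlgebra.QuadraticForm.Basic

/-!
Borel-stable subspaces of low dimension in the adjoint representation.
-/

set_option autoImplicit false
set_option linter.unusedSectionVars false
universe u v w
open LieAlgebra LieModule

namespace Groth.Agent.Adj36

variable {ι : Type u} {K : Type v} {L : Type w} [Fintype ι] [Field K] [CharZero K]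
  [IsAlgClosed K] [LieRing L] [LieAlgebra K L] [FiniteDimensional K L] [LieAlgebra.IsSimple K L]
  {H : LieSubalgebra K L} [H.IsCartanSubalgebra] (b : LieAlgebra.Basis ι H)

theorem mem_rs {μ : Module.Dual K H} {x : L} :
    x ∈ rootSpace H (μ : H → K) ↔ ∀ h : H, ⁅(h : L), x⁆ = μ h • x := by
  refine ⟨fun hx h => IsKilling.lie_eq_smul_of_mem_rootSpace hx h, fun hx => ?_⟩
  exact (mem_genWeightSpace _ _ _).2 fun h => ⟨1, by simp [hx h]⟩

theorem he (i : ι) : b.e i ∈ rootSpace H (b.baseSupp i : H → K) :=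
  mem_rs.2 fun h => by simp

theorem hf (i : ι) (h : H) : ⁅(h : L), b.f i⁆ = -(b.baseSupp i h) • b.f i := by
  simp

theorem e_rs {μ : Module.Dual K H} {x : L} (hx : ∀ h : H, ⁅(h : L), x⁆ = μ h • x) (i : ι) (h : H) :
    ⁅(h : L), ⁅b.e i, x⁆⁆ = (μ + b.baseSupp i) h • ⁅b.e i, x⁆ := by
  rw [leibniz_lie, hx, lie_smul, mem_rs.1 (he b i) h, smul_lie, LinearMap.add_apply, add_smul, add_comm]

theorem f_rs {μ : Module.Dual K H} {x : L} (hx : ∀ h : H, ⁅(h : L), x⁆ = μ h • x) (i : ι) (h : H) :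
    ⁅(h : L), ⁅b.f i, x⁆⁆ = (μ - b.baseSupp i) h • ⁅b.f i, x⁆ := by
  rw [leibniz_lie, hx, lie_smul, hf b i h, smul_lie, LinearMap.sub_apply, sub_smul, neg_smul]
  abel

theorem exists_h0 : ∃ h0 : H, ∀ i, b.baseSupp i h0 = 1 := by
  classical
  let φ : H →ₗ[K] (ι → K) := LinearMap.pi b.baseSupp
  have hs : φ.range = ⊤ := by
    by_contra hne
    obtain ⟨g, hg, hgk⟩ := Submodule.exists_le_ker_of_lt_top _ (lt_top_iff_ne_top.2 hne)
    refine hg (LinearMap.pi_ext' fun i => LinearMap.ext_ring ?_)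
    have h0 : ∑ i, g (Pi.single i 1) • b.baseSupp i = 0 := by
      ext x
      have : g (φ x) = 0 := hgk ⟨x, rfl⟩
      rw [show φ x = ∑ i, b.baseSupp i x • Pi.single i (1 : K) from by
        ext k; simp [φ, Finset.sum_apply, Pi.single_apply], map_sum] at this
      simp only [map_smul, smul_eq_mul] at this
      simp [mul_comm, this]
    simpa using Fintype.linearIndependent_iff.1 b.linearIndependent_baseSupp _ h0 i
  obtain ⟨h0, hh0⟩ : (fun _ => 1 : ι → K) ∈ φ.range := hs ▸ trivial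
  exact ⟨h0, congrFun hh0⟩

/-- Reflection in a simple root preserves the set of weights. -/
theorem refl {μ : Module.Dual K H} (hμ : rootSpace H (μ : H → K) ≠ ⊥) (i : ι) :
    rootSpace H ((μ - μ (b.h' i) • b.baseSupp i : Module.Dual K H) : H → K) ≠ ⊥ := by
  let wμ : Weight K H L := ⟨μ, hμ⟩
  let a : Weight K H L := (b.baseSupp' i).1
  have hc : IsKilling.coroot a = b.h' i := b.coroot_eq_h' i
  have h := (IsKilling.reflectRoot a wμ).genWeightSpace_ne_bot
  have e : ((μ - μ (b.h' i) • b.baseSupp i : Module.Dual K H) : H → K) = IsKilling.reflectRoot a wμ := by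
    funext x
    show _ = ((μ : H → K) - μ (IsKilling.coroot a) • (b.baseSupp i : H → K)) x
    rw [hc]; rfl
  rw [e]; exact h

theorem one_dim {μ : Module.Dual K H} (hμ : μ ≠ 0) {x : L} (hx : x ∈ rootSpace H (μ : H → K))
    (hx0 : x ≠ 0) : (rootSpace H (μ : H → K) : Submodule K L) = Submodule.span K {x} := by
  have hne : rootSpace H (μ : H → K) ≠ ⊥ := fun h => hx0 (by rw [h] at hx; exact (LieSubmodule.mem_bot x).1 hx)
  let wμ : Weight K H L := ⟨μ, hne⟩
  have hnz : wμ.IsNonZero := fun hz => hμ (LinearMap.ext fun h => congrFun hz h)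
  symm
  refine Submodule.eq_of_le_of_finrank_le ((Submodule.span_singleton_le_iff_mem _ _).2 hx) ?_
  rw [finrank_span_singleton hx0]
  exact (IsKilling.finrank_rootSpace_eq_one wμ hnz).le

theorem A2 (i : ι) : b.A i i = 2 :=
  haveI : IsAddTorsionFree L := .of_isTorsionFree K L
  b.A_diag_eq_two i

theorem A_zero_symm {i j : ι} (hij : i ≠ j) (h0 : b.A i j = 0) : b.A j i = 0 := by
  have e : ⁅b.f j, b.e i⁆ = 0 := by rw [← lie_skew, b.lie_e_f_ne i j hij, neg_zero]
  have hh : ⁅b.h j, b.e i⁆ = 0 := by rw [b.lie_h_e, h0, zero_smul]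
  have P : (b.sl2 j).symm.HasPrimitiveVectorWith (b.e i) (0 : K) :=
    { ne_zero := (b.sl2 i).e_ne_zero
      lie_h := by rw [neg_lie, hh, neg_zero, zero_smul]
      lie_e := e }
  have hee : ⁅b.e j, b.e i⁆ = 0 := by
    simpa using P.pow_toEnd_f_eq_zero_of_eq_nat (n := 0) (by simp)
  have : ⁅b.h i, b.e j⁆ = 0 := by
    rw [← (b.sl2 i).lie_e_f, lie_lie, ← lie_skew (b.f i) (b.e j), b.lie_e_f_ne j i hij.symm, neg_zero,
      lie_zero, ← lie_skew (b.e i) (b.e j), hee, neg_zero, lie_zero, sub_zero]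
  rw [b.lie_h_e] at this
  have h2 : ((b.A j i : K)) • b.e j = 0 := by rwa [Int.cast_smul_eq_zsmul]
  exact Int.cast_eq_zero.1 ((smul_eq_zero.1 h2).resolve_right (b.sl2 j).e_ne_zero)

/-- Iterated lowering operators applied to a vector. -/
inductive Word (x : L) : ℕ → L → Prop
  | base : Word x 0 x
  | step {n : ℕ} {y : L} (i : ι) : Word x n y → Word x (n + 1) ⁅b.f i, y⁆

theorem word_span_eq_top {μ : Module.Dual K H} {x : L} (hx0 : x ≠ 0)
    (hx : ∀ h : H, ⁅(h : L), x⁆ = μ h • x) (hxe : ∀ i, ⁅b.e i, x⁆ = 0) :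
    Submodule.span K {y | ∃ n, Word b x n y} = ⊤ := by
  set M := Submodule.span K {y | ∃ n, Word b x n y}
  have hH : ∀ (n : ℕ) (y : L), Word b x n y → ∀ h : H, ⁅(h : L), y⁆ ∈ M := by
    intro n y hy
    induction hy with
    | base => intro h; rw [hx]; exact M.smul_mem _ (Submodule.subset_span ⟨0, .base⟩)
    | @step n y i hy ih =>
      intro h
      rw [leibniz_lie, hf b i h, smul_lie]
      refine M.add_mem (M.smul_mem _ (Submodule.subset_span ⟨_, .step i hy⟩)) ?_
      have : M ≤ M.comap (ad K L (b.f i)) := Submodule.span_le.2 fun z ⟨m, hz⟩ =>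
        Submodule.subset_span ⟨m + 1, .step i hz⟩
      exact this (ih h)
  have hF : ∀ i, M ≤ M.comap (ad K L (b.f i)) := fun i => Submodule.span_le.2 fun z ⟨m, hz⟩ =>
    Submodule.subset_span ⟨m + 1, .step i hz⟩
  have hE : ∀ (n : ℕ) (y : L), Word b x n y → ∀ k, ⁅b.e k, y⁆ ∈ M := by
    intro n y hy
    induction hy with
    | base => intro k; rw [hxe]; exact M.zero_mem
    | @step n y i hy ih =>
      intro k
      rw [leibniz_lie]
      refine M.add_mem ?_ (hF i (ih k))
      rcases eq_or_ne k i with rfl | hki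
      · rw [(b.sl2 k).lie_e_f]; exact hH n y hy (b.h' k)
      · rw [b.lie_e_f_ne k i hki, zero_lie]; exact M.zero_mem
  let St : LieSubalgebra K L :=
    { carrier := {a | ∀ y ∈ M, ⁅a, y⁆ ∈ M}
      add_mem' := fun ha hb y hy => by rw [add_lie]; exact M.add_mem (ha y hy) (hb y hy)
      zero_mem' := fun y hy => by rw [zero_lie]; exact M.zero_mem
      smul_mem' := fun c a ha y hy => by rw [smul_lie]; exact M.smul_mem c (ha y hy)
      lie_mem' := fun ha hb y hy => by
        rw [lie_lie]; exact M.sub_mem (ha _ (hb y hy)) (hb _ (ha y hy)) }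
  have hSt : St = ⊤ := by
    rw [eq_top_iff, ← b.span_ef, LieSubalgebra.lieSpan_le]
    rintro _ (⟨i, rfl⟩ | ⟨i, rfl⟩)
    · have : M ≤ M.comap (ad K L (b.e i)) := Submodule.span_le.2 fun z ⟨m, hz⟩ => hE m z hz i
      exact fun y hy => this hy
    · exact fun y hy => hF i hy
  let I : LieIdeal K L :=
    { M with lie_mem := fun {a m} hm => (show a ∈ St from hSt ▸ trivial) m hm }
  rcases LieAlgebra.IsSimple.eq_bot_or_eq_top I with h | h
  · exfalso
    have : x ∈ I := Submodule.subset_span ⟨0, .base⟩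
    rw [h] at this
    exact hx0 ((LieSubmodule.mem_bot x).1 this)
  · exact congrArg LieSubmodule.toSubmodule h

theorem word_eigen {μ : Module.Dual K H} {x : L} (hx : ∀ h : H, ⁅(h : L), x⁆ = μ h • x)
    {h0 : H} (hh0 : ∀ i, b.baseSupp i h0 = 1) {n : ℕ} {y : L} (hy : Word b x n y) :
    ⁅(h0 : L), y⁆ = (μ h0 - n) • y ∧ (n = 0 → y = x) := by
  induction hy with
  | base => simp [hx]
  | @step n y i hy ih =>
    refine ⟨?_, fun h => absurd h (Nat.succ_ne_zero n)⟩
    rw [leibniz_lie, hf b i h0, hh0, smul_lie, ih.1, lie_smul, ← add_smul]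
    congr 1
    push_cast; ring

/-- Two weight vectors killed by all raising operators are proportional. -/
theorem highest_unique {μ ν : Module.Dual K H} {x y : L} (hx0 : x ≠ 0) (hy0 : y ≠ 0)
    (hx : ∀ h : H, ⁅(h : L), x⁆ = μ h • x) (hxe : ∀ i, ⁅b.e i, x⁆ = 0)
    (hy : ∀ h : H, ⁅(h : L), y⁆ = ν h • y) (hye : ∀ i, ⁅b.e i, y⁆ = 0) :
    y ∈ Submodule.span K {x} := by
  classical
  obtain ⟨h0, hh0⟩ := exists_h0 b
  set T : Module.End K L := ad K L (h0 : L)
  have ind := Module.End.eigenspaces_iSupIndep T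
  have key : ∀ {μ' ν' : Module.Dual K H} {x' y' : L}, x' ≠ 0 → y' ≠ 0 →
      (∀ h : H, ⁅(h : L), x'⁆ = μ' h • x') → (∀ i, ⁅b.e i, x'⁆ = 0) →
      (∀ h : H, ⁅(h : L), y'⁆ = ν' h • y') → ∃ n : ℕ, ν' h0 = μ' h0 - n := by
    intro μ' ν' x' y' hx0' hy0' hx' hxe' hy'
    by_contra hcon
    push Not at hcon
    refine hy0' (Submodule.disjoint_def.1 (ind (ν' h0)) y' (Module.End.mem_eigenspace_iff.2 (hy' h0)) ?_)
    have : y' ∈ Submodule.span K {z | ∃ n, Word b x' n z} := by rw [word_span_eq_top b hx0' hx' hxe']; trivial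
    refine (Submodule.span_le.2 ?_) this
    rintro z ⟨n, hz⟩
    exact Submodule.mem_iSup_of_mem (μ' h0 - n)
      (Submodule.mem_iSup_of_mem (Ne.symm (hcon n)) (Module.End.mem_eigenspace_iff.2 (word_eigen b hx' hh0 hz).1))
  obtain ⟨n, hn⟩ := key hx0 hy0 hx hxe hy
  obtain ⟨m, hm⟩ := key hy0 hx0 hy hye hx
  have hnm : ((n + m : ℕ) : K) = 0 := by push_cast; linear_combination hn + hm
  have : n = 0 := by have := Nat.cast_eq_zero.1 hnm; omega
  have hνμ : ν h0 = μ h0 := by rw [hn, this]; simp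
  set Y : Submodule K L := ⨆ c, ⨆ (_ : c ≠ μ h0), T.eigenspace c
  have hmem : y ∈ Submodule.span K {x} ⊔ Y := by
    have : y ∈ Submodule.span K {z | ∃ n, Word b x n z} := by rw [word_span_eq_top b hx0 hx hxe]; trivial
    refine (Submodule.span_le.2 ?_) this
    rintro z ⟨k, hz⟩
    rcases Nat.eq_zero_or_pos k with hk | hk
    · exact Submodule.mem_sup_left (Submodule.mem_span_singleton.2 ⟨1, by rw [one_smul, (word_eigen b hx hh0 hz).2 hk]⟩)
    · refine Submodule.mem_sup_right (Submodule.mem_iSup_of_mem (μ h0 - k) (Submodule.mem_iSup_of_mem ?_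
        (Module.End.mem_eigenspace_iff.2 (word_eigen b hx hh0 hz).1)))
      simp [hk.ne']
  obtain ⟨s, hs, t, ht, rfl⟩ := Submodule.mem_sup.1 hmem
  have ht0 : t = 0 := by
    refine Submodule.disjoint_def.1 (ind (μ h0)) t ?_ ht
    obtain ⟨a, rfl⟩ := Submodule.mem_span_singleton.1 hs
    have hyy : a • x + t ∈ T.eigenspace (μ h0) := Module.End.mem_eigenspace_iff.2 (hνμ ▸ hy h0)
    exact (Submodule.add_mem_iff_right _ (Submodule.smul_mem _ a (Module.End.mem_eigenspace_iff.2 (hx h0)))).1 hyy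
  rw [ht0, add_zero]; exact hs

end Groth.Agent.Adj36
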