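import Groth.Agent.Adj36.Basic

/-!
Borel-stable subspaces of dimension two and three, and semi-invariant quadratic forms on them.
-/

set_option autoImplicit false
set_option linter.unusedSectionVars false
universe u v w
open LieAlgebra LieModule

namespace Groth.Agent.Adj36

variable {ι : Type u} {K : Type v} {L : Type w} [Fintype ι] [Field K] [CharZero K]
  [IsAlgClosed K] [LieRing L] [LieAlgebra K L] [FiniteDimensional K L] [LieAlgebra.IsSimple K L]
  {H : LieSubalgebra K L} [H.IsCartanSubalgebra] (b : LieAlgebra.Basis ι H)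

/-- Stability under the upper Borel subalgebra. -/
def Stable (W : Submodule K L) : Prop :=
  ∀ x ∈ H.toSubmodule ⊔ (b.borelUpper : Submodule K L), ∀ w ∈ W, ⁅x, w⁆ ∈ W

theorem e_mem_borel (i : ι) : b.e i ∈ H.toSubmodule ⊔ (b.borelUpper : Submodule K L) :=
  Submodule.mem_sup_right (LieSubalgebra.subset_lieSpan ⟨i, rfl⟩)

theorem rs_ne_bot {μ : Module.Dual K H} {x : L} (hx : ∀ h : H, ⁅(h : L), x⁆ = μ h • x) (hx0 : x ≠ 0) :
    rootSpace H (μ : H → K) ≠ ⊥ := fun h => hx0 (by
  have := mem_rs.2 hx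
  rw [h] at this
  exact (LieSubmodule.mem_bot x).1 this)

theorem stable_of_gens {W : Submodule K L} (hH : ∀ h : H, ∀ w ∈ W, ⁅(h : L), w⁆ ∈ W)
    (hE : ∀ i, ∀ w ∈ W, ⁅b.e i, w⁆ ∈ W) : Stable b W := by
  intro x hx w hw
  obtain ⟨h, hh, u, hu, rfl⟩ := Submodule.mem_sup.1 hx
  rw [add_lie]
  refine W.add_mem (hH ⟨h, hh⟩ w hw) ?_
  let St : LieSubalgebra K L :=
    { carrier := {a | ∀ y ∈ W, ⁅a, y⁆ ∈ W}
      add_mem' := fun ha hb y hy => by rw [add_lie]; exact W.add_mem (ha y hy) (hb y hy)
      zero_mem' := fun y hy => by rw [zero_lie]; exact W.zero_mem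
      smul_mem' := fun c a ha y hy => by rw [smul_lie]; exact W.smul_mem c (ha y hy)
      lie_mem' := fun ha hb y hy => by
        rw [lie_lie]; exact W.sub_mem (ha _ (hb y hy)) (hb _ (ha y hy)) }
  exact (LieSubalgebra.lieSpan_le (K := St)).2 (by rintro _ ⟨i, rfl⟩; exact hE i) hu w hw

/-- A stable subspace not contained in `W'` contains a weight vector outside `W'` which all raising
operators send into `W'`. -/
theorem exists_step {W : Submodule K L} (hst : Stable b W) (W' : Submodule K L) (hne : ¬ W ≤ W') :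
    ∃ (μ : Module.Dual K H) (z : L), (∀ h : H, ⁅(h : L), z⁆ = μ h • z) ∧ z ∈ W ∧ z ∉ W' ∧
      ∀ i, ⁅b.e i, z⁆ ∈ W' := by
  classical
  let Wm : LieSubmodule K H L :=
    { W with lie_mem := fun {h w} hw => hst h (Submodule.mem_sup_left h.2) w hw }
  set F : Set (Weight K H L) :=
    {χ | ∃ z : L, (∀ h : H, ⁅(h : L), z⁆ = (χ : H → K) h • z) ∧ z ∈ W ∧ z ∉ W'}
  have hF : F.Nonempty := by
    by_contra hemp
    apply hne
    let T : Submodule K Wm := W'.comap (Wm : Submodule K L).subtype
    have hT : (⊤ : LieSubmodule K H Wm).toSubmodule ≤ T := by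
      rw [← iSup_genWeightSpace_eq_top K H Wm, LieSubmodule.iSup_toSubmodule]
      refine iSup_le fun χ => ?_
      intro z hz
      by_contra hzW
      have hz' : (z : L) ∈ rootSpace H χ :=
        map_genWeightSpace_le Wm.incl ⟨z, hz, rfl⟩
      have h0 : rootSpace H χ ≠ ⊥ := fun h => hzW (by
        rw [h] at hz'
        show (z : L) ∈ W'
        rw [(LieSubmodule.mem_bot _).1 hz']; exact W'.zero_mem)
      exact hemp ⟨⟨χ, h0⟩, z, fun h => IsKilling.lie_eq_smul_of_mem_rootSpace hz' h, z.2, hzW⟩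
    intro w hw
    exact hT (x := (⟨w, hw⟩ : Wm)) trivial
  by_contra hcon
  push Not at hcon
  obtain ⟨h0, hh0⟩ := exists_h0 b
  have hsucc : ∀ χ ∈ F, ∃ χ' ∈ F, (χ' : H → K) h0 = (χ : H → K) h0 + 1 := by
    rintro χ ⟨z, hz, hzW, hzW'⟩
    obtain ⟨i, hi⟩ := hcon χ.toLinear z (fun h => hz h) hzW hzW'
    have hr := fun h => e_rs b (μ := χ.toLinear) (fun h => hz h) i h
    have hne0 : ⁅b.e i, z⁆ ≠ 0 := fun h => hi (by rw [h]; exact W'.zero_mem)
    refine ⟨⟨(χ.toLinear + b.baseSupp i : Module.Dual K H), rs_ne_bot hr hne0⟩,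
      ⟨_, hr, hst _ (e_mem_borel b i) z hzW, hi⟩, ?_⟩
    show (χ.toLinear + b.baseSupp i) h0 = _
    rw [LinearMap.add_apply, hh0]; rfl
  obtain ⟨χ0, hχ0⟩ := hF
  have hall : ∀ n : ℕ, ∃ χ ∈ F, (χ : H → K) h0 = (χ0 : H → K) h0 + n := by
    intro n
    induction n with
    | zero => exact ⟨χ0, hχ0, by simp⟩
    | succ n ih =>
      obtain ⟨χ, hχ, e⟩ := ih
      obtain ⟨χ', hχ', e'⟩ := hsucc χ hχ
      exact ⟨χ', hχ', by rw [e', e]; push_cast; ring⟩
  choose g _ hg using hall
  exact not_injective_infinite_finite g fun m n hmn => by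
    have := hg m
    rw [hmn, hg n] at this
    exact_mod_cast (add_left_cancel this).symm

/-- Highest root data. -/
structure Top (ρ : Module.Dual K H) (j : ι) (v w : L) : Prop where
  ne : ρ ≠ 0
  top : ∀ i, rootSpace H ((ρ + b.baseSupp i : Module.Dual K H) : H → K) = ⊥
  other : ∀ i, i ≠ j → ρ (b.h' i) = 0
  one : ρ (b.h' j) = 1
  hv : ∀ h : H, ⁅(h : L), v⁆ = ρ h • v
  v0 : v ≠ 0
  ev : ∀ i, ⁅b.e i, v⁆ = 0
  hw : ∀ h : H, ⁅(h : L), w⁆ = (ρ - b.baseSupp j) h • w
  ew : ∀ i, i ≠ j → ⁅b.e i, w⁆ = 0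
  ejw : ⁅b.e j, w⁆ = v
  w0 : w ≠ 0

variable {b}
variable {ρ : Module.Dual K H} {j : ι} {v w : L}

theorem exists_top (hρ : rootSpace H (ρ : H → K) ≠ ⊥)
    (htop : ∀ i, rootSpace H ((ρ + b.baseSupp i : Module.Dual K H) : H → K) = ⊥)
    (hN : ∀ i, ρ (b.h' i) ≠ 0 ↔ i = j) (hj : ρ (b.h' j) = 1) :
    ∃ v w : L, Top b ρ j v w := by
  obtain ⟨v, hv, v0⟩ : ∃ v ∈ rootSpace H (ρ : H → K), v ≠ 0 := by
    simpa [LieSubmodule.eq_bot_iff] using hρ
  have hv' := mem_rs.1 hv
  have ev : ∀ i, ⁅b.e i, v⁆ = 0 := fun i => by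
    by_contra h
    exact rs_ne_bot (e_rs b hv' i) h (htop i)
  have ejw : ⁅b.e j, ⁅b.f j, v⁆⁆ = v := by
    rw [leibniz_lie, ev j, lie_zero, add_zero, (b.sl2 j).lie_e_f]
    exact (hv' (b.h' j)).trans (by rw [hj, one_smul])
  refine ⟨v, ⁅b.f j, v⁆, ⟨fun h => by simp [h] at hj, htop,
    fun i hi => by_contra fun h => hi ((hN i).1 h), hj, hv', v0, ev, f_rs b hv' j, fun i hi => ?_, ejw,
    fun h => v0 (by rw [← ejw, h, lie_zero])⟩⟩
  rw [leibniz_lie, ev i, lie_zero, add_zero, b.lie_e_f_ne i j hi, zero_lie]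

namespace Top

variable (T : Top b ρ j v w)
include T

theorem ne' : ρ - b.baseSupp j ≠ 0 := fun h => by
  have := LinearMap.congr_fun h (b.h' j)
  simp [T.one, sub_eq_zero, A2] at this

theorem rs_v : (rootSpace H (ρ : H → K) : Submodule K L) = Submodule.span K {v} :=
  one_dim T.ne (mem_rs.2 T.hv) T.v0

theorem rs_w : (rootSpace H ((ρ - b.baseSupp j : Module.Dual K H) : H → K) : Submodule K L) =
    Submodule.span K {w} :=
  one_dim T.ne' (mem_rs.2 T.hw) T.w0

theorem not_root (i : ι) (hi : i ≠ j) :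
    rootSpace H ((ρ - b.baseSupp i : Module.Dual K H) : H → K) = ⊥ := by
  by_contra h
  have := refl b h i
  apply this
  rw [show ρ - b.baseSupp i - (ρ - b.baseSupp i) (b.h' i) • b.baseSupp i = ρ + b.baseSupp i by
    rw [LinearMap.sub_apply, T.other i hi, Basis.baseSupp_apply_h', A2]
    push_cast; module]
  exact T.top i

theorem indep {a c : K} (h : a • v + c • w = 0) : a = 0 ∧ c = 0 := by
  have h' := congrArg (fun x => ⁅b.e j, x⁆) h
  simp [lie_add, lie_smul, T.ev, T.ejw, T.v0] at h'
  subst h'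
  simpa [T.v0] using h

theorem finrank_two : Module.finrank K (Submodule.span K {v} ⊔ Submodule.span K {w} : Submodule K L) = 2 := by
  rw [← Submodule.span_union, Set.singleton_union]
  have hli : LinearIndependent K ![v, w] := LinearIndependent.pair_iff.2 fun a c h => T.indep h
  have := finrank_span_eq_card hli
  rwa [Matrix.range_cons, Matrix.range_cons, Matrix.range_empty, Set.union_empty, Set.singleton_union,
    Fintype.card_fin] at this

theorem mem_of_stable {W : Submodule K L} (hst : Stable b W) (hW : W ≠ ⊥) : v ∈ W := by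
  obtain ⟨μ, z, hz, hzW, hz', hze⟩ := exists_step b hst ⊥ (by simpa using hW)
  have := highest_unique b (fun h => hz' ((Submodule.mem_bot K).2 h)) T.v0 hz
    (fun i => (Submodule.mem_bot K).1 (hze i)) T.hv T.ev
  exact (Submodule.span_singleton_le_iff_mem _ _).2 hzW this

theorem w_mem_of_stable {W : Submodule K L} (hst : Stable b W) (hW : 2 ≤ Module.finrank K W) :
    w ∈ W := by
  have hne : ¬ W ≤ Submodule.span K {v} := fun h => by
    have := Submodule.finrank_mono h
    rw [finrank_span_singleton T.v0] at this; omega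
  obtain ⟨μ, z, hz, hzW, hz', hze⟩ := exists_step b hst _ hne
  have hz0 : z ≠ 0 := fun h => hz' (h ▸ Submodule.zero_mem _)
  obtain ⟨i, hi⟩ : ∃ i, ⁅b.e i, z⁆ ≠ 0 := by
    by_contra h
    push Not at h
    exact hz' (highest_unique b T.v0 hz0 T.hv T.ev hz h)
  obtain ⟨a, ha⟩ := Submodule.mem_span_singleton.1 (hze i)
  have hμ : μ = ρ - b.baseSupp i := LinearMap.ext fun h => by
    have := e_rs b hz i h
    rw [← ha, lie_smul, T.hv, smul_comm a (ρ h) v] at this
    have := smul_left_injective K (by rw [ha]; exact hi) this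
    rw [LinearMap.sub_apply, this]; simp
  have hij : i = j := by
    by_contra hij
    exact rs_ne_bot (hμ ▸ hz) hz0 (T.not_root i hij)
  subst hij
  have hm : z ∈ (rootSpace H ((ρ - b.baseSupp i : Module.Dual K H) : H → K) : Submodule K L) :=
    mem_rs.2 (hμ ▸ hz)
  rw [T.rs_w] at hm
  obtain ⟨c, rfl⟩ := Submodule.mem_span_singleton.1 hm
  exact (Submodule.smul_mem_iff _ (fun h => hz0 (by simp [h]))).1 hzW

theorem pair_stable : Stable b (Submodule.span K {v} ⊔ Submodule.span K {w}) := by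
  set W := Submodule.span K {v} ⊔ Submodule.span K {w}
  have hv : v ∈ W := Submodule.mem_sup_left (Submodule.mem_span_singleton_self v)
  have hw : w ∈ W := Submodule.mem_sup_right (Submodule.mem_span_singleton_self w)
  have main : ∀ a : L, ⁅a, v⁆ ∈ W → ⁅a, w⁆ ∈ W → ∀ x ∈ W, ⁅a, x⁆ ∈ W := by
    intro a h1 h2
    have : W ≤ W.comap (ad K L a) := sup_le ((Submodule.span_singleton_le_iff_mem _ _).2 h1)
      ((Submodule.span_singleton_le_iff_mem _ _).2 h2)
    exact fun x hx => this hx
  refine stable_of_gens b (fun h => main _ ?_ ?_) (fun i => main _ ?_ ?_)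
  · rw [T.hv]; exact W.smul_mem _ hv
  · rw [T.hw]; exact W.smul_mem _ hw
  · rw [T.ev]; exact W.zero_mem
  · rcases eq_or_ne i j with rfl | hij
    · rw [T.ejw]; exact hv
    · rw [T.ew i hij]; exact W.zero_mem

theorem two_iff (W : Submodule K L) :
    (Module.finrank K W = 2 ∧ Stable b W) ↔ W = Submodule.span K {v} ⊔ Submodule.span K {w} := by
  constructor
  · rintro ⟨h2, hst⟩
    refine (Submodule.eq_of_le_of_finrank_eq (sup_le ?_ ?_) (T.finrank_two.trans h2.symm)).symm
    · exact (Submodule.span_singleton_le_iff_mem _ _).2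
        (T.mem_of_stable hst fun h => by subst h; rw [finrank_bot] at h2; omega)
    · exact (Submodule.span_singleton_le_iff_mem _ _).2 (T.w_mem_of_stable hst h2.ge)
  · rintro rfl
    exact ⟨T.finrank_two, T.pair_stable⟩

theorem three_aux {W : Submodule K L} (hst : Stable b W) (h3 : Module.finrank K W = 3) :
    ∃ (i : ι) (z : L) (κ : K), i ≠ j ∧ b.A i j ≠ 0 ∧ κ ≠ 0 ∧
      ⁅b.e i, z⁆ = κ • w ∧ ⁅b.e j, z⁆ = 0 ∧
      (rootSpace H ((ρ - b.baseSupp j - b.baseSupp i : Module.Dual K H) : H → K) : Submodule K L) =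
        Submodule.span K {z} ∧
      W = Submodule.span K {v} ⊔ Submodule.span K {w} ⊔ Submodule.span K {z} := by
  set P := Submodule.span K {v} ⊔ Submodule.span K {w}
  have hPW : P ≤ W := sup_le
    ((Submodule.span_singleton_le_iff_mem _ _).2 (T.mem_of_stable hst fun h => by subst h; rw [finrank_bot] at h3; omega))
    ((Submodule.span_singleton_le_iff_mem _ _).2 (T.w_mem_of_stable hst (by omega)))
  have hne : ¬ W ≤ P := fun h => by
    have := Submodule.finrank_mono h
    rw [T.finrank_two] at this; omega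
  obtain ⟨μ, z, hz, hzW, hz', hze⟩ := exists_step b hst _ hne
  have hz0 : z ≠ 0 := fun h => hz' (h ▸ Submodule.zero_mem _)
  obtain ⟨i, hi⟩ : ∃ i, ⁅b.e i, z⁆ ≠ 0 := by
    by_contra h
    push Not at h
    exact hz' (Submodule.mem_sup_left (highest_unique b T.v0 hz0 T.hv T.ev hz h))
  obtain ⟨_, hs, _, ht, hac⟩ := Submodule.mem_sup.1 (hze i)
  obtain ⟨a, rfl⟩ := Submodule.mem_span_singleton.1 hs
  obtain ⟨κ, rfl⟩ := Submodule.mem_span_singleton.1 ht
  have hsc : ∀ h : H, a = 0 ∨ μ h = (ρ - b.baseSupp i) h := fun h => by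
    have e := e_rs b hz i h
    rw [← hac, lie_add, lie_smul, lie_smul, T.hv, T.hw] at e
    have : (a * ((ρ - b.baseSupp i) h - μ h)) • v +
        (κ * ((ρ - b.baseSupp j - b.baseSupp i) h - μ h)) • w = 0 := by
      rw [← sub_eq_zero] at e
      rw [← e]
      simp only [LinearMap.sub_apply, LinearMap.add_apply]
      module
    rcases mul_eq_zero.1 (T.indep this).1 with h' | h'
    · exact Or.inl h'
    · exact Or.inr (sub_eq_zero.1 h').symm
  have hsc' : ∀ h : H, κ = 0 ∨ μ h = (ρ - b.baseSupp j - b.baseSupp i) h := fun h => by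
    have e := e_rs b hz i h
    rw [← hac, lie_add, lie_smul, lie_smul, T.hv, T.hw] at e
    have : (a * ((ρ - b.baseSupp i) h - μ h)) • v +
        (κ * ((ρ - b.baseSupp j - b.baseSupp i) h - μ h)) • w = 0 := by
      rw [← sub_eq_zero] at e
      rw [← e]
      simp only [LinearMap.sub_apply, LinearMap.add_apply]
      module
    rcases mul_eq_zero.1 (T.indep this).2 with h' | h'
    · exact Or.inl h'
    · exact Or.inr (sub_eq_zero.1 h').symm
  have ha : a = 0 := by
    by_contra ha
    have hμ : μ = ρ - b.baseSupp i := LinearMap.ext fun h => (hsc h).resolve_left ha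
    rcases eq_or_ne i j with rfl | hij
    · have hm : z ∈ (rootSpace H ((ρ - b.baseSupp i : Module.Dual K H) : H → K) : Submodule K L) :=
        mem_rs.2 (hμ ▸ hz)
      rw [T.rs_w] at hm
      exact hz' (Submodule.mem_sup_right hm)
    · exact rs_ne_bot (hμ ▸ hz) hz0 (T.not_root i hij)
  subst ha
  rw [zero_smul, zero_add] at hac
  have hκ : κ ≠ 0 := fun h => hi (by rw [← hac, h, zero_smul])
  have hμ : μ = ρ - b.baseSupp j - b.baseSupp i := LinearMap.ext fun h => (hsc' h).resolve_left hκ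
  subst hμ
  have hroot := rs_ne_bot hz hz0
  have hij : i ≠ j := by
    rintro rfl
    apply refl b hroot i
    rw [show ρ - b.baseSupp i - b.baseSupp i -
        (ρ - b.baseSupp i - b.baseSupp i) (b.h' i) • b.baseSupp i = ρ + b.baseSupp i by
      simp only [LinearMap.sub_apply, T.one, Basis.baseSupp_apply_h', A2]
      push_cast; module]
    exact T.top i
  have hji : b.A j i = 0 → False := fun h0 => by
    have h1 := refl b hroot i
    rw [show ρ - b.baseSupp j - b.baseSupp i -
        (ρ - b.baseSupp j - b.baseSupp i) (b.h' i) • b.baseSupp i = ρ - b.baseSupp j + b.baseSupp i by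
      simp only [LinearMap.sub_apply, T.other i hij, Basis.baseSupp_apply_h', A2, h0]
      push_cast; module] at h1
    have hA : b.A i j = 0 := A_zero_symm b hij.symm h0
    apply refl b h1 j
    rw [show ρ - b.baseSupp j + b.baseSupp i -
        (ρ - b.baseSupp j + b.baseSupp i) (b.h' j) • b.baseSupp j = ρ + b.baseSupp i by
      simp only [LinearMap.sub_apply, LinearMap.add_apply, T.one, Basis.baseSupp_apply_h',
        A2, hA]
      push_cast; module]
    exact T.top i
  have hA : b.A i j ≠ 0 := fun h0 => hji (A_zero_symm b hij h0)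
  have hμ0 : ρ - b.baseSupp j - b.baseSupp i ≠ 0 := fun h => by
    have hi' := LinearMap.congr_fun h (b.h' i)
    simp only [LinearMap.sub_apply, LinearMap.zero_apply, T.other i hij, Basis.baseSupp_apply_h',
      A2] at hi'
    have hAji : (b.A j i : K) = -2 := by push_cast at hi'; linear_combination -hi'
    apply refl b (rs_ne_bot (mem_rs.1 (he b j)) (b.sl2 j).e_ne_zero) i
    rw [show b.baseSupp j - b.baseSupp j (b.h' i) • b.baseSupp i = ρ + b.baseSupp i by
      rw [Basis.baseSupp_apply_h', hAji]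
      rw [sub_eq_zero, sub_eq_iff_eq_add] at h
      rw [h]; module]
    exact T.top i
  have hejz : ⁅b.e j, z⁆ = 0 := by
    by_contra hne0
    have := rs_ne_bot (e_rs b hz j) hne0
    rw [show ρ - b.baseSupp j - b.baseSupp i + b.baseSupp j = ρ - b.baseSupp i by abel] at this
    exact this (T.not_root i hij)
  refine ⟨i, z, κ, hij, hA, hκ, hac.symm, hejz, one_dim hμ0 (mem_rs.2 hz) hz0, ?_⟩
  refine (Submodule.eq_of_le_of_finrank_le
    (sup_le hPW ((Submodule.span_singleton_le_iff_mem _ _).2 hzW)) ?_).symm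
  have hlt : P < P ⊔ Submodule.span K {z} :=
    lt_of_le_of_ne le_sup_left fun h => hz' (h ▸ Submodule.mem_sup_right (Submodule.mem_span_singleton_self z))
  have := Submodule.finrank_lt_finrank_of_lt hlt
  rw [T.finrank_two] at this
  omega

theorem quad_rank_le_one {W : Submodule K L} (hst : Stable b W) (h3 : Module.finrank K W = 3)
    (q : QuadraticForm K W)
    (hq : ∀ (x : L) (hx : x ∈ H.toSubmodule ⊔ (b.borelUpper : Submodule K L)), ∃ c : K, ∀ w : W,
      QuadraticMap.polar q ⟨⁅x, (w : L)⁆, hst x hx w w.property⟩ w = c * q w) :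
    ∃ (l : Module.Dual K W) (c : K), ∀ w : W, q w = c * l w ^ 2 := by
  obtain ⟨i, z, κ, hij, -, hκ, hez, hejz, -, hW⟩ := T.three_aux hst h3
  have hvW : v ∈ W := hW ▸ Submodule.mem_sup_left (Submodule.mem_sup_left (Submodule.mem_span_singleton_self v))
  have hwW : w ∈ W := hW ▸ Submodule.mem_sup_left (Submodule.mem_sup_right (Submodule.mem_span_singleton_self w))
  have hzW : z ∈ W := hW ▸ Submodule.mem_sup_right (Submodule.mem_span_singleton_self z)
  let V : W := ⟨v, hvW⟩
  let U : W := ⟨w, hwW⟩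
  let Z : W := ⟨z, hzW⟩
  have hall : ∀ u : W, ∃ p r t : K, u = p • V + r • U + t • Z := by
    rintro ⟨u, hu⟩
    rw [hW] at hu
    obtain ⟨x1, hx1, x2, hx2, e12⟩ := Submodule.mem_sup.1 hu
    obtain ⟨y1, hy1, y2, hy2, e34⟩ := Submodule.mem_sup.1 hx1
    obtain ⟨p, e5⟩ := Submodule.mem_span_singleton.1 hy1
    obtain ⟨r, e6⟩ := Submodule.mem_span_singleton.1 hy2
    obtain ⟨t, e7⟩ := Submodule.mem_span_singleton.1 hx2
    refine ⟨p, r, t, Subtype.ext ?_⟩
    show u = p • v + r • w + t • z
    rw [e5, e6, e7, e34, e12]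
  obtain ⟨c, hc⟩ := hq (b.e j) (e_mem_borel b j)
  obtain ⟨d, hd⟩ := hq (b.e i) (e_mem_borel b i)
  have e1 : ∀ p r t : K, QuadraticMap.polar q (r • V) (p • V + r • U + t • Z) = c * q (p • V + r • U + t • Z) := by
    intro p r t
    rw [← hc]
    congr 1
    refine Subtype.ext ?_
    simp [V, U, Z, lie_add, lie_smul, T.ev, T.ejw, hejz]
  have e2 : ∀ p r t : K, QuadraticMap.polar q ((t * κ) • U) (p • V + r • U + t • Z) = d * q (p • V + r • U + t • Z) := by
    intro p r t
    rw [← hd]
    congr 1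
    refine Subtype.ext ?_
    simp [V, U, Z, lie_add, lie_smul, T.ev, T.ew i hij, hez, smul_smul]
  have two : (2 : K) ≠ 0 := two_ne_zero
  have pol : ∀ (s : K) (x : W) (p r t : K), QuadraticMap.polar q (s • x) (p • V + r • U + t • Z) =
      s * (p * QuadraticMap.polar q x V + r * QuadraticMap.polar q x U + t * QuadraticMap.polar q x Z) := by
    intro s x p r t
    simp [QuadraticMap.polar_add_right, smul_eq_mul]
    ring
  have qf : ∀ p r t : K, q (p • V + r • U + t • Z) = p ^ 2 * q V + r ^ 2 * q U + t ^ 2 * q Z +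
      p * r * QuadraticMap.polar q V U + p * t * QuadraticMap.polar q V Z + r * t * QuadraticMap.polar q U Z := by
    intro p r t
    rw [QuadraticMap.map_add q, QuadraticMap.map_add q]
    simp only [QuadraticMap.map_smul, QuadraticMap.polar_add_left, QuadraticMap.polar_smul_left,
      QuadraticMap.polar_smul_right, smul_eq_mul]
    ring
  simp only [pol, qf, QuadraticMap.polar_self, nsmul_eq_mul, Nat.cast_ofNat] at e1 e2
  rw [QuadraticMap.polar_comm q U V] at e2
  set A := q V; set B := q U; set C := q Z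
  set D := QuadraticMap.polar q V U
  set E := QuadraticMap.polar q V Z
  set F := QuadraticMap.polar q U Z
  suffices h : A = 0 ∧ B = 0 ∧ D = 0 ∧ E = 0 ∧ F = 0 by
    obtain ⟨hA, hB, hD, hE, hF⟩ := h
    let bas : Module.Basis (Fin 3) K W := Module.Basis.mk (v := ![V, U, Z]) (by
        refine linearIndependent_of_top_le_span_of_card_eq_finrank ?_ (by simp [h3])
        intro u _
        obtain ⟨p, r, t, rfl⟩ := hall u
        refine Submodule.add_mem _ (Submodule.add_mem _ ?_ ?_) ?_ <;>
          refine Submodule.smul_mem _ _ (Submodule.subset_span ?_) <;> simp) (by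
        intro u _
        obtain ⟨p, r, t, rfl⟩ := hall u
        refine Submodule.add_mem _ (Submodule.add_mem _ ?_ ?_) ?_ <;>
          refine Submodule.smul_mem _ _ (Submodule.subset_span ?_) <;> simp)
    refine ⟨bas.coord 2, C, fun u => ?_⟩
    obtain ⟨p, r, t, rfl⟩ := hall u
    have hl : bas.coord 2 (p • V + r • U + t • Z) = t := by
      rw [show V = bas 0 by simp [bas], show U = bas 1 by simp [bas], show Z = bas 2 by simp [bas]]
      simp
    rw [qf, hl, hA, hB, hD, hE, hF]; ring
  by_cases hq0 : c = 0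
  · subst hq0
    have a1 := e1 1 1 0
    have a2 := e1 0 1 0
    have a3 := e1 0 1 1
    have hD : D = 0 := by linear_combination a2
    have hA : A = 0 := by
      refine (mul_eq_zero.1 (show (2 : K) * A = 0 by linear_combination a1 - a2)).resolve_left two
    have hE : E = 0 := by linear_combination a3 - a2
    rw [hA, hD, hE] at e2
    by_cases hd0 : d = 0
    · subst hd0
      have b1 := e2 0 1 1
      have b2 := e2 0 0 1
      have hF : F = 0 := (mul_eq_zero.1 (show κ * F = 0 by linear_combination b2)).resolve_left hκ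
      have hB : B = 0 := (mul_eq_zero.1 (show (κ * 2) * B = 0 by linear_combination b1 - b2)).resolve_left
        (mul_ne_zero hκ two)
      exact ⟨hA, hB, hD, hE, hF⟩
    · have b0 := e2 0 1 0
      have hB : B = 0 := (mul_eq_zero.1 (show d * B = 0 by linear_combination -b0)).resolve_left hd0
      rw [hB] at e2
      have b1 := e2 0 1 1
      have b2 := e2 0 0 1
      have hF : F = 0 := (mul_eq_zero.1 (show d * F = 0 by linear_combination b2 - b1)).resolve_left hd0
      exact ⟨hA, hB, hD, hE, hF⟩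
  · have hA : A = 0 := (mul_eq_zero.1 (show c * A = 0 by linear_combination -(e1 1 0 0))).resolve_left hq0
    have hC : C = 0 := (mul_eq_zero.1 (show c * C = 0 by linear_combination -(e1 0 0 1))).resolve_left hq0
    have hE : E = 0 := (mul_eq_zero.1 (show c * E = 0 by
      linear_combination -(e1 1 0 1) - c * hA - c * hC)).resolve_left hq0
    rw [hA, hC, hE] at e1
    have a2 := e1 0 1 0
    have a1 := e1 1 1 0
    have a3 := e1 0 1 1
    have hD : D = 0 := (mul_eq_zero.1 (show c * D = 0 by linear_combination a2 - a1)).resolve_left hq0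
    have hB : B = 0 := (mul_eq_zero.1 (show c * B = 0 by linear_combination hD - a2)).resolve_left hq0
    have hF : F = 0 := (mul_eq_zero.1 (show c * F = 0 by linear_combination a2 - a3)).resolve_left hq0
    exact ⟨hA, hB, hD, hE, hF⟩

end Top

end Groth.Agent.Adj36
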